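import Groth.Agent.LocInt98.TorShift

/-!
# Periodicity of `Tor` over a hypersurface
-/

set_option autoImplicit false
set_option linter.style.haveILetI false

universe u

open CategoryTheory CategoryTheory.Limits TensorProduct

namespace Groth.Agent.LocInt98

theorem shortExact_of_exact {R : Type u} [CommRing R] {K F M : Type u} [AddCommGroup K] [Module R K]
    [AddCommGroup F] [Module R F] [AddCommGroup M] [Module R M] (i : K →ₗ[R] F) (q : F →ₗ[R] M)
    (hi : Function.Injective i) (hiq : Function.Exact i q) (hq : Function.Surjective q) :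
    (ShortComplex.mk (ModuleCat.ofHom i) (ModuleCat.ofHom q)
      (ModuleCat.hom_ext hiq.linearMap_comp_eq_zero)).ShortExact :=
  { exact := (ShortComplex.ShortExact.moduleCat_exact_iff_function_exact _).2 hiq
    mono_f := (ModuleCat.mono_iff_injective _).2 hi
    epi_g := (ModuleCat.epi_iff_surjective _).2 hq }

variable {B R : Type u} [CommRing B] [CommRing R] [Algebra B R] {g : B}

/-- Data of a hypersurface. -/
structure IsHyp (B R : Type u) [CommRing B] [CommRing R] [Algebra B R] (g : B) : Prop where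
  regular : IsSMulRegular B g
  surj : Function.Surjective (algebraMap B R)
  ker : RingHom.ker (algebraMap B R) = Ideal.span {g}

variable (hH : IsHyp B R g)

include hH in
theorem map_g : algebraMap B R g = 0 := by
  rw [← RingHom.mem_ker, hH.ker]; exact Ideal.mem_span_singleton_self g

include hH in
theorem g_smul {M : Type u} [AddCommGroup M] [Module B M] [Module R M] [IsScalarTower B R M] (x : M) :
    g • x = 0 := by
  rw [← algebraMap_smul R g x, map_g hH, zero_smul]

include hH in
theorem exact_mul_g : Function.Exact (LinearMap.lsmul B B g) (Algebra.linearMap B R) := fun b => by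
  rw [Algebra.linearMap_apply, ← RingHom.mem_ker, hH.ker, Ideal.mem_span_singleton]
  exact ⟨fun ⟨c, hc⟩ => ⟨c, hc.symm⟩, fun ⟨c, hc⟩ => ⟨c, hc.symm⟩⟩

include hH in
/-- `1 ⊗ p = 0` exactly for multiples of `g`. -/
theorem one_tmul_eq_zero_iff (P : Type u) [AddCommGroup P] [Module B P] (p : P) :
    (1 : R) ⊗ₜ[B] p = 0 ↔ ∃ p', g • p' = p := by
  constructor
  · intro h
    obtain ⟨y, hy⟩ := (rTensor_exact P (exact_mul_g hH) hH.surj ((1 : B) ⊗ₜ p)).1 (by
      simpa using h)
    refine ⟨TensorProduct.lid B P y, ?_⟩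
    have : ∀ y, TensorProduct.lid B P ((LinearMap.lsmul B B g).rTensor P y) = g • TensorProduct.lid B P y := by
      intro y
      induction y using TensorProduct.induction_on with
      | zero => simp
      | add a b ha hb => simp [ha, hb]
      | tmul b x => simp [mul_smul]
    rw [← this, hy]; simp
  · rintro ⟨p', rfl⟩
    rw [← TensorProduct.smul_tmul, g_smul hH, zero_tmul]

include hH in
theorem one_tmul_surjective (P : Type u) [AddCommGroup P] [Module B P] (w : R ⊗[B] P) :
    ∃ p, (1 : R) ⊗ₜ[B] p = w := by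
  obtain ⟨p, hp⟩ := TensorProduct.mk_surjective B P R hH.surj w
  exact ⟨p, hp⟩

section Cover

variable (L : Type u) [AddCommGroup L] [Module R L] [Module B L] [IsScalarTower B R L]

/-- The free cover. -/
noncomputable abbrev cov : (L →₀ B) →ₗ[B] L := Finsupp.linearCombination B id

theorem cov_single (l : L) : cov (B := B) L (Finsupp.single l 1) = l := by simp

/-- `γ : R ⊗ P₀ → L`. -/
noncomputable abbrev gam : R ⊗[B] (L →₀ B) →ₗ[R] L := (cov L).liftBaseChange R

/-- `β : R ⊗ P₁ → R ⊗ P₀`. -/
noncomputable abbrev bet : R ⊗[B] LinearMap.ker (cov (B := B) L) →ₗ[R] R ⊗[B] (L →₀ B) :=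
  (LinearMap.ker (cov L)).subtype.baseChange R

include hH in
theorem exists_lift_of_surj {P W : Type u} [AddCommGroup P] [Module B P] [AddCommGroup W] [Module R W]
    [Module B W] [IsScalarTower B R W] (f : P →ₗ[B] L) (hf : Function.Surjective f) (a : P →ₗ[B] W)
    (ha : ∀ p, f p = 0 → a p = 0) : ∃ α : L →ₗ[R] W, ∀ p, α (f p) = a p := by
  choose σ hσ using hf
  have key : ∀ p, a (σ (f p)) = a p := fun p => by
    rw [← sub_eq_zero, ← map_sub, ha]
    rw [map_sub, hσ, sub_self]
  exact ⟨{ toFun := fun l => a (σ l)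
           map_add' := fun l l' => by
             rw [← map_add a]
             conv_lhs => rw [← hσ l, ← hσ l', ← map_add f]
             exact key _
           map_smul' := fun r l => by
             obtain ⟨c, rfl⟩ := hH.surj r
             rw [RingHom.id_apply, algebraMap_smul, algebraMap_smul, ← map_smul a]
             conv_lhs => rw [← hσ l, ← map_smul f]
             exact key _ }, key⟩

include hH in
theorem exists_alpha : ∃ α : L →ₗ[R] R ⊗[B] LinearMap.ker (cov (B := B) L),
    ∀ (x : L →₀ B) (hx : g • x ∈ LinearMap.ker (cov L)), α (cov L x) = (1 : R) ⊗ₜ ⟨g • x, hx⟩ := by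
  have hmem : ∀ x : L →₀ B, g • x ∈ LinearMap.ker (cov L) := fun x => by
    rw [LinearMap.mem_ker, map_smul, g_smul hH]
  let a : (L →₀ B) →ₗ[B] R ⊗[B] LinearMap.ker (cov (B := B) L) :=
    (TensorProduct.mk B R (LinearMap.ker (cov (B := B) L)) 1) ∘ₗ
      ((LinearMap.lsmul B (L →₀ B) g).codRestrict (LinearMap.ker (cov L)) hmem)
  obtain ⟨α, hα⟩ := exists_lift_of_surj hH L (cov (B := B) L) (Finsupp.linearCombination_id_surjective B L) a
    fun p hp => by
      show (1 : R) ⊗ₜ[B] (⟨g • p, hmem p⟩ : LinearMap.ker (cov (B := B) L)) = 0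
      exact (one_tmul_eq_zero_iff hH ↥(LinearMap.ker (cov (B := B) L)) _).2 ⟨⟨p, hp⟩, Subtype.ext rfl⟩
  exact ⟨α, fun x _ => hα x⟩

include hH in
theorem torPeriod (hL : DRing.HasTorDimLE B 1 L) (N : ModuleCat.{u} R) :
    (∀ i, Nonempty (((Tor (ModuleCat.{u} R) (i + 1 + 1 + 1)).obj (ModuleCat.of R L)).obj N ≅
      ((Tor (ModuleCat.{u} R) (i + 1)).obj (ModuleCat.of R L)).obj N)) ∧
    ∀ (D : B → B), (∀ a b, D (a + b) = D a + D b) → (∀ a b, D (a * b) = a * D b + b * D a) →
      ∀ i (t : ((Tor (ModuleCat.{u} R) (i + 1)).obj (ModuleCat.of R L)).obj N),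
        algebraMap B R (D g) • t = 0 := by
  classical
  let q := cov (B := B) L
  let P₁ := LinearMap.ker q
  haveI : Module.Flat B P₁ := by
    have h := (torDimLE_succ_iff' (R := B) (K := ↥P₁) (F := L →₀ B) P₁.subtype q Subtype.val_injective
      (LinearMap.exact_subtype_ker_map q) (Finsupp.linearCombination_id_surjective B L) 0).1 hL
    exact (torDimLE_zero_iff' (↥P₁)).1 h
  haveI : Module.Flat R (R ⊗[B] P₁) := inferInstance
  haveI : Module.Flat R (R ⊗[B] (L →₀ B)) := inferInstance
  obtain ⟨α, hα⟩ := exists_alpha hH L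
  have hmem : ∀ x : L →₀ B, g • x ∈ P₁ := fun x => by
    rw [LinearMap.mem_ker, map_smul, g_smul hH]
  have hreg : ∀ x y : L →₀ B, g • x = g • y → x = y := fun x y h => by
    ext l
    exact hH.regular (DFunLike.congr_fun h l)
  have hqs : Function.Surjective q := Finsupp.linearCombination_id_surjective B L
  have hαinj : Function.Injective α := by
    rw [injective_iff_map_eq_zero]
    intro l hl
    obtain ⟨x, rfl⟩ := hqs l
    rw [hα x (hmem x)] at hl
    obtain ⟨p, hp⟩ := (one_tmul_eq_zero_iff hH ↥P₁ _).1 hl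
    have := hreg _ _ (congrArg Subtype.val hp)
    rw [← this]; exact p.2
  have hαβ : Function.Exact α (bet L) := by
    intro w
    obtain ⟨p, rfl⟩ := one_tmul_surjective hH ↥P₁ w
    constructor
    · intro hp
      rw [bet, LinearMap.baseChange_tmul] at hp
      obtain ⟨x, hx⟩ := (one_tmul_eq_zero_iff hH _ _).1 hp
      refine ⟨q x, ?_⟩
      rw [hα x (hmem x)]
      exact congrArg _ (Subtype.ext hx)
    · rintro ⟨l, hl⟩
      obtain ⟨x, rfl⟩ := hqs l
      rw [← hl, hα x (hmem x), bet, LinearMap.baseChange_tmul]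
      exact (one_tmul_eq_zero_iff hH _ _).2 ⟨x, rfl⟩
  have hβγ : Function.Exact (bet L) (gam (B := B) (R := R) L) := by
    intro w
    obtain ⟨x, rfl⟩ := one_tmul_surjective hH _ w
    constructor
    · intro hx
      rw [gam, LinearMap.liftBaseChange_tmul, one_smul] at hx
      exact ⟨(1 : R) ⊗ₜ ⟨x, hx⟩, by rw [bet, LinearMap.baseChange_tmul]; rfl⟩
    · rintro ⟨v, hv⟩
      rw [← hv]
      obtain ⟨p, rfl⟩ := one_tmul_surjective hH ↥P₁ v
      rw [bet, LinearMap.baseChange_tmul, gam, LinearMap.liftBaseChange_tmul, one_smul]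
      exact p.2
  have hγ : Function.Surjective (gam (B := B) (R := R) L) := fun l => by
    obtain ⟨x, rfl⟩ := hqs l
    exact ⟨(1 : R) ⊗ₜ x, by rw [gam, LinearMap.liftBaseChange_tmul, one_smul]⟩
  refine ⟨fun i => ?_, fun D hadd hmul i t => ?_⟩
  · let Q := LinearMap.ker (gam (B := B) (R := R) L)
    have hS₁ := shortExact_of_exact (R := R) (K := ↥Q) (F := R ⊗[B] (L →₀ B)) Q.subtype
      (gam (B := B) (R := R) L) Subtype.val_injective (LinearMap.exact_subtype_ker_map _) hγ
    let b' : R ⊗[B] P₁ →ₗ[R] Q := (bet L).codRestrict Q fun v => hβγ.apply_apply_eq_zero v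
    have hαb : Function.Exact α b' := fun w =>
      (show b' w = 0 ↔ bet L w = 0 from ⟨fun h => congrArg Subtype.val h, fun h => Subtype.ext h⟩).trans (hαβ w)
    have hS₂ := shortExact_of_exact (R := R) (K := L) (F := R ⊗[B] ↥P₁) (M := ↥Q) α b' hαinj hαb
      (fun z => by
        obtain ⟨v, hv⟩ := (hβγ z.1).1 z.2
        exact ⟨v, Subtype.ext hv⟩)
    haveI : Module.Flat R (ModuleCat.of R (R ⊗[B] (L →₀ B))) := inferInstanceAs (Module.Flat R (R ⊗[B] (L →₀ B)))
    haveI : Module.Flat R (ModuleCat.of R (R ⊗[B] ↥P₁)) := inferInstanceAs (Module.Flat R (R ⊗[B] ↥P₁))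
    obtain ⟨e₁⟩ := nonempty_torShift hS₁ N (i + 1)
    obtain ⟨e₂⟩ := nonempty_torShift hS₂ N i
    exact ⟨e₁ ≪≫ e₂⟩
  · have hD0 : D 0 = 0 := by simpa using hadd 0 0
    let nab : (L →₀ B) → (L →₀ B) := Finsupp.mapRange D hD0
    have nadd : ∀ x y, nab (x + y) = nab x + nab y := fun x y => Finsupp.mapRange_add hadd x y
    have nsmul : ∀ (b : B) x, nab (b • x) = D b • x + b • nab x := fun b x => by
      ext l
      simp only [nab, Finsupp.mapRange_apply, Finsupp.smul_apply, Finsupp.add_apply, smul_eq_mul, hmul]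
      ring
    let φ : P₁ →ₗ[B] L :=
      { toFun := fun p => q (nab p.1)
        map_add' := fun p p' => by simp only [Submodule.coe_add, nadd, map_add]
        map_smul' := fun b p => by
          simp only [SetLike.val_smul, nsmul, map_add, map_smul, RingHom.id_apply]
          rw [show q p.1 = 0 from p.2, smul_zero, zero_add] }
    refine smul_eq_zero_of_factor (X := ModuleCat.of R L) (F := ModuleCat.of R (R ⊗[B] P₁))
      (ModuleCat.ofHom α) (ModuleCat.ofHom (φ.liftBaseChange R)) _ (fun l => ?_) N i t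
    obtain ⟨x, rfl⟩ := hqs l
    show φ.liftBaseChange R (α (q x)) = _
    rw [hα x (hmem x), LinearMap.liftBaseChange_tmul, one_smul, algebraMap_smul]
    show q (nab (g • x)) = _
    rw [nsmul, map_add, map_smul, map_smul, g_smul hH (q (nab x)), add_zero]

end Cover

include hH in
/-- Free modules over the hypersurface have tor dimension `≤ 1`. -/
theorem torDimLE_free (κ : Type u) : DRing.HasTorDimLE B 1 (κ →₀ R) := by
  refine (torDimLE_succ_iff' (LinearMap.lsmul B (κ →₀ B) g)
    (Finsupp.mapRange.linearMap (Algebra.linearMap B R)) ?_ ?_ ?_ 0).2 ((torDimLE_zero_iff' _).2 inferInstance)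
  · intro x y h
    ext l
    exact hH.regular (DFunLike.congr_fun h l)
  · intro x
    constructor
    · intro hx
      have h : ∀ l, ∃ c, g * c = x l := fun l => by
        obtain ⟨c, hc⟩ := (exact_mul_g hH (x l)).1 (DFunLike.congr_fun hx l)
        exact ⟨c, hc⟩
      choose c hc using h
      refine ⟨Finsupp.onFinset x.support c fun l hl => Finsupp.mem_support_iff.2 fun h0 => hl
        (hH.regular (show g • c l = g • 0 by rw [smul_zero, smul_eq_mul, hc, h0])), ?_⟩
      ext l
      exact hc l
    · rintro ⟨y, rfl⟩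
      ext l
      simp [g_smul hH]
  · intro y
    choose c hc using fun l => hH.surj (y l)
    classical
    refine ⟨Finsupp.onFinset y.support (fun l => if y l = 0 then 0 else c l)
      (fun l hl => Finsupp.mem_support_iff.2 fun h0 => hl (if_pos h0)), ?_⟩
    ext l
    simp only [Finsupp.mapRange.linearMap_apply, Finsupp.mapRange_apply, Finsupp.onFinset_apply,
      Algebra.linearMap_apply]
    split_ifs with h
    · rw [map_zero, h]
    · exact hc l

include hH in
/-- Reduction to modules of tor dimension one. -/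
theorem exists_syzygy (N : ModuleCat.{u} R) : ∀ (j : ℕ) (M : Type u) [AddCommGroup M] [Module R M] [Module B M]
    [IsScalarTower B R M], DRing.HasTorDimLE B (j + 1) M →
    ∃ (L : Type u) (_ : AddCommGroup L) (_ : Module R L) (_ : Module B L) (_ : IsScalarTower B R L),
      DRing.HasTorDimLE B 1 L ∧ ∀ i, Nonempty (((Tor (ModuleCat.{u} R) (i + j + 1)).obj (ModuleCat.of R M)).obj N ≅
        ((Tor (ModuleCat.{u} R) (i + 1)).obj (ModuleCat.of R L)).obj N) := by
  intro j
  induction j with
  | zero =>
    intro M _ _ _ _ h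
    exact ⟨M, inferInstance, inferInstance, inferInstance, inferInstance, h, fun i => ⟨Iso.refl _⟩⟩
  | succ j ih =>
    intro M _ _ _ _ h
    let p : (M →₀ R) →ₗ[R] M := Finsupp.linearCombination R id
    have hp : Function.Surjective p := Finsupp.linearCombination_id_surjective R M
    let K := LinearMap.ker p
    have hK : DRing.HasTorDimLE B (j + 1) K := by
      have hS := shortExact_of_exact (R := B) (K := ↥K) (F := M →₀ R) (K.subtype.restrictScalars B)
        (p.restrictScalars B) Subtype.val_injective (LinearMap.exact_subtype_ker_map p) hp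
      intro N' _ _ r hr
      exact ModuleCat.isZero_iff_subsingleton.1 (H9Misc.DRingTor.isZero_tor_first hS (ModuleCat.of B N') r
        (ModuleCat.isZero_iff_subsingleton.2 (torDimLE_free hH M N' r (by omega)))
        (ModuleCat.isZero_iff_subsingleton.2 (h N' (r + 1) (by omega))))
    obtain ⟨L, i₁, i₂, i₃, i₄, hL, e⟩ := ih K hK
    refine ⟨L, i₁, i₂, i₃, i₄, hL, fun i => ?_⟩
    have hS' := shortExact_of_exact (R := R) (K := ↥K) (F := M →₀ R) K.subtype p Subtype.val_injective
      (LinearMap.exact_subtype_ker_map p) hp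
    haveI : Module.Flat R (ModuleCat.of R (M →₀ R)) := inferInstanceAs (Module.Flat R (M →₀ R))
    obtain ⟨e'⟩ := nonempty_torShift hS' N (i + j)
    obtain ⟨e''⟩ := e i
    exact ⟨e' ≪≫ e''⟩

include hH in
/-- A `B`-flat module over the hypersurface is zero. -/
theorem subsingleton_of_flat (M : Type u) [AddCommGroup M] [Module R M] [Module B M] [IsScalarTower B R M]
    [Module.Flat B M] : Subsingleton M :=
  subsingleton_of_forall_eq 0 fun x => by
    have hi : Function.Injective ((LinearMap.lsmul B B g).rTensor M) :=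
      Module.Flat.rTensor_preserves_injective_linearMap _ fun a b h => hH.regular h
    have h0 : (1 : B) ⊗ₜ[B] x = 0 := hi (by
      rw [map_zero, LinearMap.rTensor_tmul, LinearMap.lsmul_apply, ← TensorProduct.smul_tmul', ← TensorProduct.tmul_smul,
        g_smul hH, tmul_zero])
    simpa using congrArg (TensorProduct.lid B M) h0

end Groth.Agent.LocInt98
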