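import Groth.Agent.LocInt98.Hypersurface

/-!
# `Tor` over a hypersurface in a smooth algebra
-/

set_option autoImplicit false
set_option linter.style.haveILetI false

universe u

open CategoryTheory CategoryTheory.Limits KaehlerDifferential

namespace Groth.Agent.LocInt98

variable (A B R : Type u) [CommRing A] [CommRing B] [CommRing R]
  [Algebra A B] [Algebra B R] [Algebra A R] [IsScalarTower A B R] [Algebra.Smooth A B]

theorem zero_or_syzygy {g : B} (hH : IsHyp B R g) {n : ℕ}
    (hn : ∀ p : PrimeSpectrum B, Module.rankAtStalk (Ω[B⁄A]) p = n) (m : ℕ) (M N : ModuleCat.{u} R)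
    (hM : ∀ (P : ModuleCat.{u} A) (i : ℕ), m < i →
      IsZero (((Tor (ModuleCat.{u} A) i).obj ((ModuleCat.restrictScalars (algebraMap A R)).obj M)).obj P)) :
    (∀ q, IsZero (((Tor (ModuleCat.{u} R) q).obj M).obj N)) ∨
    ∃ (j : ℕ) (L : Type u) (_ : AddCommGroup L) (_ : Module R L) (_ : Module B L) (_ : IsScalarTower B R L),
      j + 1 = n + m ∧ DRing.HasTorDimLE B 1 L ∧ ∀ i, Nonempty (((Tor (ModuleCat.{u} R) (i + j + 1)).obj M).obj N ≅
        ((Tor (ModuleCat.{u} R) (i + 1)).obj (ModuleCat.of R L)).obj N) := by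
  letI : Module A M := Module.compHom M (algebraMap A R)
  letI : Module B M := Module.compHom M (algebraMap B R)
  haveI : IsScalarTower B R M := IsScalarTower.of_algebraMap_smul fun _ _ => rfl
  haveI : IsScalarTower A B M := IsScalarTower.of_algebraMap_smul fun a x => by
    show algebraMap B R (algebraMap A B a) • x = algebraMap A R a • x
    rw [← IsScalarTower.algebraMap_apply]
  have hA : DRing.HasTorDimLE A m M := fun P _ _ p hp =>
    ModuleCat.isZero_iff_subsingleton.1 (hM (ModuleCat.of A P) p hp)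
  have hB : DRing.HasTorDimLE B (n + m) M := torDimLE_smooth hn m M hA
  rcases Nat.eq_zero_or_pos (n + m) with h0 | hpos
  · left
    intro q
    rw [h0] at hB
    haveI : Module.Flat B M := (torDimLE_zero_iff' (M : Type u)).1 hB
    haveI : Subsingleton M := subsingleton_of_flat hH M
    exact FlatSyz5.isZero_tor_of_isZero M N (ModuleCat.isZero_iff_subsingleton.2 inferInstance) q
  · right
    obtain ⟨j, hj⟩ : ∃ j, j + 1 = n + m := ⟨n + m - 1, by omega⟩
    obtain ⟨L, i₁, i₂, i₃, i₄, hL, e⟩ := exists_syzygy hH N j M (hj.symm ▸ hB)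
    exact ⟨j, L, i₁, i₂, i₃, i₄, hj, hL, e⟩

end Groth.Agent.LocInt98
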