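import Groth.Agent.H9Misc.DRingTorDim
import Mathlib

/-!
# Tor dimension over a smooth algebra
-/

set_option autoImplicit false
set_option linter.style.haveILetI false

universe u

open CategoryTheory CategoryTheory.Limits TensorProduct

namespace Groth.Agent.LocInt98

/-- The short exact sequence form of `torDimLE_succ_iff`. -/
theorem torDimLE_succ_iff' {R : Type u} [CommRing R] {K F M : Type u} [AddCommGroup K] [Module R K]
    [AddCommGroup F] [Module R F] [Module.Flat R F] [AddCommGroup M] [Module R M]
    (i : K →ₗ[R] F) (q : F →ₗ[R] M) (hi : Function.Injective i) (hiq : Function.Exact i q)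
    (hq : Function.Surjective q) (d : ℕ) :
    DRing.HasTorDimLE R (d + 1) M ↔ DRing.HasTorDimLE R d K := by
  let S : ShortComplex (ModuleCat.{u} R) :=
    ShortComplex.mk (ModuleCat.ofHom i) (ModuleCat.ofHom q) (by ext x; exact hiq.apply_apply_eq_zero x)
  have hS : S.ShortExact :=
    { exact := (ShortComplex.ShortExact.moduleCat_exact_iff_function_exact _).2 hiq
      mono_f := (ModuleCat.mono_iff_injective _).2 hi
      epi_g := (ModuleCat.epi_iff_surjective _).2 hq }
  haveI : Module.Flat R S.X₂ := inferInstanceAs (Module.Flat R F)
  exact H9Misc.DRingTor.torDimLE_succ_iff hS d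

theorem torDimLE_zero_iff' {R : Type u} [CommRing R] (M : Type u) [AddCommGroup M] [Module R M] :
    DRing.HasTorDimLE R 0 M ↔ Module.Flat R M :=
  H9Misc.DRingTor.torDimLE_zero_iff (ModuleCat.of R M)

theorem torDimLE_mono {R : Type u} [CommRing R] {M : Type u} [AddCommGroup M] [Module R M] {d e : ℕ}
    (h : DRing.HasTorDimLE R d M) (hde : d ≤ e) : DRing.HasTorDimLE R e M :=
  fun N _ _ p hp => h N p (lt_of_le_of_lt hde hp)

theorem torDimLE_of_subsingleton {R : Type u} [CommRing R] (M : Type u) [AddCommGroup M] [Module R M]
    [Subsingleton M] (d : ℕ) : DRing.HasTorDimLE R d M :=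
  torDimLE_mono ((torDimLE_zero_iff' M).2 inferInstance) (Nat.zero_le d)

/-- If `R`-flat modules have tor dimension `≤ c` over `S`, then the tor dimension grows by at most `c`. -/
theorem torDimLE_step (R S : Type u) [CommRing R] [CommRing S] [Algebra R S] [Module.Flat R S] (c : ℕ)
    (base : ∀ (M : Type u) [AddCommGroup M] [Module R M] [Module S M] [IsScalarTower R S M]
      [Module.Flat R M], DRing.HasTorDimLE S c M) :
    ∀ (d : ℕ) (M : Type u) [AddCommGroup M] [Module R M] [Module S M] [IsScalarTower R S M],
      DRing.HasTorDimLE R d M → DRing.HasTorDimLE S (c + d) M := by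
  intro d
  induction d with
  | zero =>
    intro M _ _ _ _ h
    haveI := (torDimLE_zero_iff' M).1 h
    exact base M
  | succ d ih =>
    intro M _ _ _ _ h
    let q : (M →₀ S) →ₗ[S] M := Finsupp.linearCombination S id
    have hq : Function.Surjective q := Finsupp.linearCombination_id_surjective S M
    haveI : Module.Flat R (M →₀ S) := Module.Flat.trans R S (M →₀ S)
    have hK : DRing.HasTorDimLE R d (LinearMap.ker q) :=
      (torDimLE_succ_iff' ((LinearMap.ker q).subtype.restrictScalars R) (q.restrictScalars R)
        Subtype.val_injective (LinearMap.exact_subtype_ker_map q) hq d).1 h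
    exact (torDimLE_succ_iff' (LinearMap.ker q).subtype q Subtype.val_injective
      (LinearMap.exact_subtype_ker_map q) hq (c + d)).2 (ih (LinearMap.ker q) hK)

/-- Tor dimension is local on the spectrum. -/
theorem torDimLE_of_localized (B : Type u) [CommRing B] (s : Set B) (hs : Ideal.span s = ⊤) :
    ∀ (d : ℕ) (M : Type u) [AddCommGroup M] [Module B M],
      (∀ f ∈ s, DRing.HasTorDimLE (Localization.Away f) d (LocalizedModule.Away f M)) →
        DRing.HasTorDimLE B d M := by
  intro d
  induction d with
  | zero =>
    intro M _ _ h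
    refine (torDimLE_zero_iff' M).2 (Module.flat_of_localized_span B M s hs fun r => ?_)
    haveI : Module.Flat (Localization.Away r.1) (LocalizedModule.Away r.1 M) :=
      (torDimLE_zero_iff' _).1 (h r.1 r.2)
    exact Module.Flat.trans B (Localization.Away r.1) _
  | succ d ih =>
    intro M _ _ h
    let q : (M →₀ B) →ₗ[B] M := Finsupp.linearCombination B id
    have hq : Function.Surjective q := Finsupp.linearCombination_id_surjective B M
    refine (torDimLE_succ_iff' (R := B) (F := M →₀ B) (LinearMap.ker q).subtype q Subtype.val_injective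
      (LinearMap.exact_subtype_ker_map q) hq d).2 (ih (LinearMap.ker q) fun f hf => ?_)
    haveI : Module.Flat (Localization (Submonoid.powers f))
      (LocalizedModule (Submonoid.powers f) (M →₀ B)) := inferInstance
    exact (torDimLE_succ_iff' (R := Localization (Submonoid.powers f))
      (F := LocalizedModule (Submonoid.powers f) (M →₀ B))
      (LocalizedModule.map (Submonoid.powers f) (LinearMap.ker q).subtype)
      (LocalizedModule.map (Submonoid.powers f) q)
      (LocalizedModule.map_injective _ _ Subtype.val_injective)
      (LocalizedModule.map_exact _ _ _ (LinearMap.exact_subtype_ker_map q))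
      (LocalizedModule.map_surjective _ _ hq) d).1 (h f hf)

section Poly

variable (C S : Type u) [CommRing C] [CommRing S] [Algebra C S]
  (M : Type u) [AddCommGroup M] [Module C M] [Module S M] [IsScalarTower C S M]

/-- `s ⊗ m ↦ s t ⊗ m - s ⊗ t m`. -/
noncomputable def charDiff (t : S) : S ⊗[C] M →ₗ[S] S ⊗[C] M :=
  LinearMap.lsmul S (S ⊗[C] M) t -
    TensorProduct.AlgebraTensorModule.map (LinearMap.id (R := S)) ((LinearMap.lsmul S M t).restrictScalars C)

theorem charDiff_tmul (t : S) (s : S) (m : M) :
    charDiff C S M t (s ⊗ₜ m) = (t * s) ⊗ₜ m - s ⊗ₜ (t • m) := by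
  simp [charDiff, TensorProduct.smul_tmul', smul_eq_mul]

/-- The multiplication map. -/
noncomputable def evalMap : S ⊗[C] M →ₗ[S] M :=
  TensorProduct.AlgebraTensorModule.lift
    (((LinearMap.lsmul S M).flip.restrictScalars C).flip)

theorem evalMap_tmul (s : S) (m : M) : evalMap C S M (s ⊗ₜ m) = s • m := by
  simp [evalMap]

variable (e : Polynomial C ≃ₐ[C] S)

/-- Coordinates in the basis of powers of the variable. -/
noncomputable def coeffEquiv : S ⊗[C] M ≃ₗ[C] ℕ →₀ M :=
  (TensorProduct.congr (e.symm.toLinearEquiv.trans (Polynomial.basisMonomials C).repr)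
    (LinearEquiv.refl C M)).trans (TensorProduct.finsuppScalarLeft C M ℕ)

theorem coeffEquiv_pow (k : ℕ) (m : M) :
    coeffEquiv C S M e ((e Polynomial.X ^ k) ⊗ₜ m) = Finsupp.single k m := by
  have h : (Polynomial.basisMonomials C).repr (e.symm (e Polynomial.X ^ k)) = Finsupp.single k 1 := by
    rw [← map_pow e, AlgEquiv.symm_apply_apply, ← Polynomial.monomial_one_right_eq_X_pow]
    rw [show Polynomial.monomial k (1 : C) = Polynomial.basisMonomials C k from
      (congrFun (Polynomial.coe_basisMonomials C) k).symm, Module.Basis.repr_self]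
  simp only [coeffEquiv, LinearEquiv.trans_apply, TensorProduct.congr_tmul, LinearEquiv.refl_apply]
  rw [show (Polynomial.basisMonomials C).repr (e.symm.toLinearEquiv (e Polynomial.X ^ k)) =
    Finsupp.single k 1 from h]
  ext j
  rw [TensorProduct.finsuppScalarLeft_apply_tmul_apply]
  rcases eq_or_ne k j with rfl | hkj
  · simp
  · simp [Finsupp.single_eq_of_ne hkj.symm]

theorem torDimLE_one_of_poly (e : Polynomial C ≃ₐ[C] S) [Module.Flat C M] : DRing.HasTorDimLE S 1 M := by
  let t := e Polynomial.X
  let φ := coeffEquiv C S M e
  refine (torDimLE_succ_iff' (charDiff C S M t) (evalMap C S M) ?_ ?_ (fun m => ⟨1 ⊗ₜ m, by simp [evalMap_tmul]⟩) 0).2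
    ((torDimLE_zero_iff' _).2 inferInstance)
  · rw [injective_iff_map_eq_zero]
    intro x hx
    obtain ⟨c, rfl⟩ := φ.symm.surjective x
    by_contra hne
    have hc : c ≠ 0 := fun h => hne (by rw [h, map_zero])
    have hs : c.support.Nonempty := Finsupp.support_nonempty_iff.2 hc
    let K := c.support.max' hs
    have key : ∀ (c : ℕ →₀ M) (j : ℕ), φ (charDiff C S M t (φ.symm c)) (j + 1) = c j - t • c (j + 1) := by
      intro c
      induction c using Finsupp.induction_linear with
      | zero => intro j; simp
      | add a b ha hb => intro j; simp only [map_add, Finsupp.add_apply, ha, hb, smul_add]; abel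
      | single k m =>
        intro j
        have : φ.symm (Finsupp.single k m) = (t ^ k) ⊗ₜ m :=
          φ.symm_apply_eq.2 (coeffEquiv_pow C S M e k m).symm
        rw [this, charDiff_tmul, map_sub, ← pow_succ', coeffEquiv_pow, coeffEquiv_pow]
        simp only [Finsupp.sub_apply, Finsupp.single_apply, add_left_inj]
        split_ifs <;> simp
    have h1 := key c K
    have h0 : charDiff C S M t (φ.symm c) = 0 := hx
    rw [h0, map_zero, Finsupp.zero_apply,
      show c (K + 1) = 0 from Finsupp.notMem_support_iff.1 fun h =>
        absurd (c.support.le_max' _ h) (by simp [K]), smul_zero, sub_zero] at h1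
    exact Finsupp.mem_support_iff.1 (c.support.max'_mem hs) h1.symm
  · have key : ∀ (p : Polynomial C) (m : M),
        (e p) ⊗ₜ[C] m - (1 : S) ⊗ₜ[C] (e p • m) ∈ LinearMap.range (charDiff C S M t) := by
      intro p
      induction p using Polynomial.induction_on' with
      | add p q hp hq =>
        intro m
        rw [map_add, add_tmul, add_smul, tmul_add]
        convert Submodule.add_mem _ (hp m) (hq m) using 1
        abel
      | monomial k c =>
        induction k with
        | zero =>
          intro m
          rw [Polynomial.monomial_zero_left, show e (Polynomial.C c) = algebraMap C S c from e.commutes c,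
            algebraMap_smul, Algebra.algebraMap_eq_smul_one, TensorProduct.smul_tmul, sub_self]
          exact Submodule.zero_mem _
        | succ k ih =>
          intro m
          have hk : e (Polynomial.monomial (k + 1) c) = t * e (Polynomial.monomial k c) := by
            rw [← map_mul, Polynomial.X_mul_monomial]
          rw [hk, mul_smul, smul_comm]
          have : (t * e (Polynomial.monomial k c)) ⊗ₜ[C] m - (1 : S) ⊗ₜ[C] (e (Polynomial.monomial k c) • t • m) =
              charDiff C S M t (e (Polynomial.monomial k c) ⊗ₜ m) +
                (e (Polynomial.monomial k c) ⊗ₜ[C] (t • m) -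
                  (1 : S) ⊗ₜ[C] (e (Polynomial.monomial k c) • t • m)) := by
            rw [charDiff_tmul]; abel
          rw [this]
          exact Submodule.add_mem _ (LinearMap.mem_range_self _ _) (ih (t • m))
    intro x
    constructor
    · intro hx
      have : x - (1 : S) ⊗ₜ[C] evalMap C S M x ∈ LinearMap.range (charDiff C S M t) := by
        clear hx
        induction x using TensorProduct.induction_on with
        | zero => simp
        | add a b ha hb =>
          rw [map_add, tmul_add]
          convert Submodule.add_mem _ ha hb using 1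
          abel
        | tmul s m =>
          obtain ⟨p, rfl⟩ := e.surjective s
          rw [evalMap_tmul]
          exact key p m
      rw [hx, tmul_zero, sub_zero] at this
      exact this
    · rintro ⟨y, rfl⟩
      induction y using TensorProduct.induction_on with
      | zero => simp
      | add a b ha hb => rw [map_add, map_add, ha, hb, add_zero]
      | tmul s m =>
        rw [charDiff_tmul, map_sub, evalMap_tmul, evalMap_tmul, mul_smul, smul_comm, sub_self]

end Poly

theorem torDimLE_mvPolynomial (A : Type u) [CommRing A] (n : ℕ) :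
    ∀ (S : Type u) [CommRing S] [Algebra A S] (_ : MvPolynomial (Fin n) A ≃ₐ[A] S)
      (M : Type u) [AddCommGroup M] [Module A M] [Module S M] [IsScalarTower A S M] [Module.Flat A M],
      DRing.HasTorDimLE S n M := by
  induction n with
  | zero =>
    intro S _ _ e M _ _ _ _ _
    refine (torDimLE_zero_iff' M).2 ?_
    let f : S ≃ₐ[A] A := e.symm.trans (MvPolynomial.isEmptyAlgEquiv A (Fin 0))
    haveI : Algebra.FormallyUnramified A S := Algebra.FormallyUnramified.of_equiv f.symm
    haveI : Module.Finite A S := Module.Finite.equiv f.symm.toLinearEquiv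
    exact Algebra.FormallyUnramified.flat_of_restrictScalars A S M
  | succ n ih =>
    intro S _ _ e M _ _ _ _ _
    let g : MvPolynomial (Fin n) A →ₐ[A] S :=
      ((MvPolynomial.finSuccEquiv A n).trans (AlgEquiv.refl)).symm.toAlgHom.comp
        (IsScalarTower.toAlgHom A (MvPolynomial (Fin n) A) (Polynomial (MvPolynomial (Fin n) A))) |>
        e.toAlgHom.comp
    letI : Algebra (MvPolynomial (Fin n) A) S := g.toRingHom.toAlgebra
    haveI : IsScalarTower A (MvPolynomial (Fin n) A) S := IsScalarTower.of_algebraMap_eq fun a => (g.commutes a).symm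
    let e' : Polynomial (MvPolynomial (Fin n) A) ≃ₐ[MvPolynomial (Fin n) A] S :=
      AlgEquiv.ofRingEquiv (f := ((MvPolynomial.finSuccEquiv A n).symm.trans e).toRingEquiv) fun c => rfl
    letI : Module (MvPolynomial (Fin n) A) M := Module.compHom M (algebraMap (MvPolynomial (Fin n) A) S)
    haveI : IsScalarTower (MvPolynomial (Fin n) A) S M := IsScalarTower.of_algebraMap_smul fun _ _ => rfl
    haveI : IsScalarTower A (MvPolynomial (Fin n) A) M := IsScalarTower.of_algebraMap_smul fun a m => by
      show algebraMap (MvPolynomial (Fin n) A) S (algebraMap A _ a) • m = a • m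
      rw [← IsScalarTower.algebraMap_apply, algebraMap_smul]
    haveI : Module.Flat (MvPolynomial (Fin n) A) S := Module.Flat.of_linearEquiv e'.toLinearEquiv.symm
    rw [add_comm]
    exact torDimLE_step (MvPolynomial (Fin n) A) S 1
      (fun M' _ _ _ _ _ => torDimLE_one_of_poly (MvPolynomial (Fin n) A) S M' e') n M
      (ih (MvPolynomial (Fin n) A) AlgEquiv.refl M)

/-- Over a standard smooth algebra of relative dimension `n`. -/
theorem torDimLE_standardSmooth (A S : Type u) [CommRing A] [CommRing S] [Algebra A S] (n : ℕ)
    [Algebra.IsStandardSmoothOfRelativeDimension n A S]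
    (M : Type u) [AddCommGroup M] [Module A M] [Module S M] [IsScalarTower A S M] [Module.Flat A M] :
    DRing.HasTorDimLE S n M := by
  obtain ⟨g, hg⟩ := Algebra.IsStandardSmoothOfRelativeDimension.exists_etale_mvPolynomial (n := n) A S
  letI : Algebra (MvPolynomial (Fin n) A) S := g.toRingHom.toAlgebra
  haveI : Algebra.Etale (MvPolynomial (Fin n) A) S := hg
  haveI : IsScalarTower A (MvPolynomial (Fin n) A) S := IsScalarTower.of_algebraMap_eq fun a => (g.commutes a).symm
  letI : Module (MvPolynomial (Fin n) A) M := Module.compHom M (algebraMap (MvPolynomial (Fin n) A) S)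
  haveI : IsScalarTower (MvPolynomial (Fin n) A) S M := IsScalarTower.of_algebraMap_smul fun _ _ => rfl
  haveI : IsScalarTower A (MvPolynomial (Fin n) A) M := IsScalarTower.of_algebraMap_smul fun a m => by
    show algebraMap (MvPolynomial (Fin n) A) S (algebraMap A _ a) • m = a • m
    rw [← IsScalarTower.algebraMap_apply, algebraMap_smul]
  have := torDimLE_step (MvPolynomial (Fin n) A) S 0 (fun M' _ _ _ _ _ => (torDimLE_zero_iff' M').2
    (Algebra.FormallyUnramified.flat_of_restrictScalars (MvPolynomial (Fin n) A) S M')) n M
    (torDimLE_mvPolynomial A n _ AlgEquiv.refl M)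
  rwa [zero_add] at this

/-- Localisation keeps flatness over the base. -/
theorem flat_localizedModule (A B M : Type u) [CommRing A] [CommRing B] [Algebra A B] [AddCommGroup M]
    [Module A M] [Module B M] [IsScalarTower A B M] [Module.Flat A M] (S : Submonoid B) :
    Module.Flat A (LocalizedModule S M) := by
  have H : Module.Flat A M := inferInstance
  rw [Module.Flat.iff_lTensor_injectiveₛ] at H ⊢
  intro P _ _ N
  have h := IsLocalizedModule.map_injective S
    (TensorProduct.AlgebraTensorModule.rTensor A N (LocalizedModule.mkLinearMap S M))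
    (TensorProduct.AlgebraTensorModule.rTensor A P (LocalizedModule.mkLinearMap S M))
    (TensorProduct.AlgebraTensorModule.lTensor B M N.subtype)
    (by rw [TensorProduct.AlgebraTensorModule.coe_lTensor]; exact H N)
  rw [IsLocalizedModule.map_lTensor, TensorProduct.AlgebraTensorModule.coe_lTensor] at h
  exact h

variable {A B : Type u} [CommRing A] [CommRing B] [Algebra A B] [Algebra.Smooth A B]

/-- Over a smooth algebra of relative dimension `n`, the tor dimension grows by at most `n`. -/
theorem torDimLE_smooth {n : ℕ} (hn : ∀ p : PrimeSpectrum B, Module.rankAtStalk (Ω[B⁄A]) p = n) (m : ℕ)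
    (M : Type u) [AddCommGroup M] [Module A M] [Module B M] [IsScalarTower A B M]
    (h : DRing.HasTorDimLE A m M) : DRing.HasTorDimLE B (n + m) M := by
  refine torDimLE_step A B n (fun M _ _ _ _ _ => ?_) m M h
  obtain ⟨s, hs, hsm⟩ := Algebra.Smooth.exists_span_eq_top_isStandardSmooth A B
  refine torDimLE_of_localized B s hs n M fun f hf => ?_
  haveI := hsm f hf
  let Bf := Localization.Away f
  rcases subsingleton_or_nontrivial Bf with hBf | hBf
  · haveI : Subsingleton (LocalizedModule.Away f M) := Module.subsingleton Bf _
    exact torDimLE_of_subsingleton _ _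
  haveI : Algebra.FormallyEtale B Bf := Algebra.FormallyEtale.of_isLocalization (Submonoid.powers f)
  haveI : Module.Free Bf (Ω[Bf⁄A]) := Algebra.IsStandardSmooth.free_kaehlerDifferential
  haveI : Algebra.IsStandardSmoothOfRelativeDimension n A Bf := by
    rw [Algebra.IsStandardSmoothOfRelativeDimension.iff_of_isStandardSmooth]
    obtain ⟨p⟩ : Nonempty (PrimeSpectrum Bf) := inferInstance
    have e := Module.rankAtStalk_eq_of_equiv (KaehlerDifferential.tensorKaehlerEquivOfFormallyEtale A B Bf)
    have h1 : Module.rankAtStalk (Ω[Bf⁄A]) p = n := by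
      rw [← congrFun e p, Module.rankAtStalk_baseChange]
      exact hn _
    rw [congrFun (Module.rankAtStalk_eq_finrank_of_free (R := Bf) (M := Ω[Bf⁄A])) p] at h1
    rw [← Module.finrank_eq_rank]
    exact_mod_cast h1
  haveI : Module.Flat A (LocalizedModule.Away f M) :=
    flat_localizedModule A B M (Submonoid.powers f)
  exact torDimLE_standardSmooth A Bf n _

end Groth.Agent.LocInt98
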