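import Groth.Agent.LocInt98.TorDim
import Groth.Agent.FlatSyz5.Dim
import Mathlib

/-!
# Dimension shifting in the first variable of `Tor`
-/

set_option autoImplicit false
set_option linter.style.haveILetI false

universe u

open CategoryTheory CategoryTheory.Limits MonoidalCategory TensorProduct

namespace Groth.Agent.LocInt98

variable {R : Type u} [CommRing R]

/-- The complex computing `Tor(X, N)`. -/
noncomputable abbrev torCx (N : ModuleCat.{u} R) (X : ModuleCat.{u} R) : ChainComplex (ModuleCat.{u} R) ℕ :=
  ((TorBridge.tenF X).mapHomologicalComplex (ComplexShape.down ℕ)).obj (ProjectiveResolution.of N).complex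

/-- Functoriality in `X`. -/
noncomputable abbrev torCxMap (N : ModuleCat.{u} R) {X Y : ModuleCat.{u} R} (f : X ⟶ Y) :
    torCx N X ⟶ torCx N Y :=
  (NatTrans.mapHomologicalComplex ((tensoringLeft (ModuleCat.{u} R)).map f) (ComplexShape.down ℕ)).app
    (ProjectiveResolution.of N).complex

/-- `Tor` is the homology of `torCx`. -/
noncomputable abbrev torCxIso (N X : ModuleCat.{u} R) (i : ℕ) :
    ((Tor (ModuleCat.{u} R) i).obj X).obj N ≅ (torCx N X).homology i :=
  (ProjectiveResolution.of N).isoLeftDerivedObj (TorBridge.tenF X) i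

/-- Connecting isomorphism. -/
theorem nonempty_torShift {S : ShortComplex (ModuleCat.{u} R)} (hS : S.ShortExact) [Module.Flat R S.X₂]
    (N : ModuleCat.{u} R) (i : ℕ) :
    Nonempty (((Tor (ModuleCat.{u} R) (i + 1 + 1)).obj S.X₃).obj N ≅
      ((Tor (ModuleCat.{u} R) (i + 1)).obj S.X₁).obj N) := by
  have hfg : torCxMap N S.f ≫ torCxMap N S.g = 0 := by
    refine HomologicalComplex.hom_ext _ _ fun j => ModuleCat.hom_ext ?_
    show S.g.hom.rTensor _ ∘ₗ S.f.hom.rTensor _ = 0
    rw [← LinearMap.rTensor_comp, ← ModuleCat.hom_comp, S.zero, ModuleCat.hom_zero, LinearMap.rTensor_zero]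
  have hT : (ShortComplex.mk (torCxMap N S.f) (torCxMap N S.g) hfg).ShortExact := by
    refine HomologicalComplex.shortExact_of_degreewise_shortExact _ fun j => ?_
    haveI : Module.Projective R ((ProjectiveResolution.of N).complex.X j) :=
      (IsProjective.iff_projective _).2 ((ProjectiveResolution.of N).projective j)
    have he : Function.Exact S.f.hom S.g.hom :=
      (ShortComplex.ShortExact.moduleCat_exact_iff_function_exact _).1 hS.exact
    exact
      { exact := (ShortComplex.ShortExact.moduleCat_exact_iff_function_exact _).2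
          (rTensor_exact _ he ((ModuleCat.epi_iff_surjective _).1 hS.epi_g))
        mono_f := (ModuleCat.mono_iff_injective _).2 (Module.Flat.rTensor_preserves_injective_linearMap
          (M := (ProjectiveResolution.of N).complex.X j) S.f.hom ((ModuleCat.mono_iff_injective _).1 hS.mono_f))
        epi_g := (ModuleCat.epi_iff_surjective _).2
          (LinearMap.rTensor_surjective _ ((ModuleCat.epi_iff_surjective _).1 hS.epi_g)) }
  have h0 : ∀ j, IsZero ((torCx N S.X₂).homology (j + 1)) := fun j =>
    (TorBridge.isZero_tor_succ_of_flat S.X₂ N j).of_iso (torCxIso N S.X₂ (j + 1)).symm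
  exact ⟨torCxIso N S.X₃ _ ≪≫ hT.δIso (i + 1 + 1) (i + 1) rfl (h0 (i + 1)) (h0 i) ≪≫
    (torCxIso N S.X₁ _).symm⟩

/-- A scalar that factors through a flat module kills higher `Tor`. -/
theorem smul_eq_zero_of_factor {X F : ModuleCat.{u} R} [Module.Flat R F] (a : X ⟶ F) (b : F ⟶ X) (c : R)
    (hab : ∀ x : X, b.hom (a.hom x) = c • x) (N : ModuleCat.{u} R) (i : ℕ)
    (t : ((Tor (ModuleCat.{u} R) (i + 1)).obj X).obj N) : c • t = 0 := by
  have hmap : torCxMap N a ≫ torCxMap N b = c • 𝟙 (torCx N X) := by
    refine HomologicalComplex.hom_ext _ _ fun j => ModuleCat.hom_ext ?_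
    show b.hom.rTensor _ ∘ₗ a.hom.rTensor _ = c • LinearMap.id
    rw [← LinearMap.rTensor_comp, show b.hom ∘ₗ a.hom = c • LinearMap.id from LinearMap.ext hab,
      LinearMap.rTensor_smul, LinearMap.rTensor_id]
  have hz : IsZero ((torCx N F).homology (i + 1)) :=
    (TorBridge.isZero_tor_succ_of_flat F N i).of_iso (torCxIso N F (i + 1)).symm
  have h1 : HomologicalComplex.homologyMap (c • 𝟙 (torCx N X)) (i + 1) = 0 := by
    rw [← hmap, HomologicalComplex.homologyMap_comp, hz.eq_of_tgt (HomologicalComplex.homologyMap _ _) 0,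
      zero_comp]
  have h2 : HomologicalComplex.homologyMap (c • 𝟙 (torCx N X)) (i + 1) =
      c • 𝟙 ((torCx N X).homology (i + 1)) := by
    rw [← HomologicalComplex.homologyMap_id (torCx N X) (i + 1)]
    show ShortComplex.homologyMap _ = c • ShortComplex.homologyMap _
    have e : (HomologicalComplex.shortComplexFunctor (ModuleCat R) (ComplexShape.down ℕ) (i + 1)).map
        (c • 𝟙 (torCx N X)) = c • (HomologicalComplex.shortComplexFunctor (ModuleCat R) (ComplexShape.down ℕ)
          (i + 1)).map (𝟙 (torCx N X)) := by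
      ext <;> rfl
    rw [e]
    exact ShortComplex.homologyMap_smul _ c
  rw [h2] at h1
  let e := (torCxIso N X (i + 1)).toLinearEquiv
  apply e.injective
  rw [map_smul, map_zero]
  exact LinearMap.congr_fun (congrArg ModuleCat.Hom.hom h1) (e t)

end Groth.Agent.LocInt98
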